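import Mathlib
import Cfsg.Prelude.Def_OddOrderLocal
import Cfsg.Agent.Lib.Helper79.BG.Util
import Cfsg.Agent.Lib.Helper79.BG.Util2
import Cfsg.Agent.Lib.Helper48.Generation
import Cfsg.Agent.Lib.Helper72.BG8

/-!
Bender–Glauberman Theorem 12.7, the part about the subgroups of order `p` of `A` (helper79):
`A₀ = C_A(M_σ)` has order `p` and is the only subgroup of order `p` of `A` centralizing a
non-identity element of `M_σ`.
-/

set_option autoImplicit false

namespace Cfsg.Agent.Lib.Helper79.BG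

open Cfsg.Agent.Lib.Helper46 Cfsg.Agent.Lib.Helper35.BG

theorem lines_core {G : Type*} [Group G] [Finite G] (hG : Cfsg.IsMinSimpleOddOrder G)
    (M : Subgroup G) (hM : IsCoatom M) (p : ℕ) [hp : Fact p.Prime] (A : Subgroup G) (hAM : A ≤ M)
    (hAc : ∀ a ∈ A, ∀ b ∈ A, a * b = b * a) (hAe : ∀ a ∈ A, a ^ p = 1)
    (hAcard : Nat.card A = p ^ 2)
    (hpMs : ¬ p ∣ Nat.card (Cfsg.sigmaCore M)) (hMs1 : Cfsg.sigmaCore M ≠ ⊥)
    (hd : Cfsg.sigmaCore M ⊓ Subgroup.centralizer (A : Set G) = ⊥)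
    (he : ∀ Mstar : Subgroup G, IsCoatom Mstar → Mstar ≠ M → A ≤ Mstar →
        Cfsg.sigmaCore M ⊓ Mstar = ⊥)
    (hact : ∀ X : Subgroup G, X ≤ A → Nat.card X = p →
        Cfsg.sigmaCore M ⊓ Subgroup.centralizer (X : Set G) ≠ ⊥ →
        (Subgroup.centralizer (X : Set G) ≤ M ∧ ∀ L : Subgroup G, IsCoatom L →
          Subgroup.centralizer (X : Set G) ≤ L → L = M))
    (t : G) (htp : ∃ k : ℕ, t ^ p ^ k = 1) (htN : t ∈ Subgroup.normalizer (A : Set G))
    (htM : t ∉ M) (hCA : Subgroup.centralizer (A : Set G) ≤ M) :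
    Nat.card ↥(A ⊓ Subgroup.centralizer (Cfsg.sigmaCore M : Set G)) = p ∧
    (∀ X : Subgroup G, X ≤ A → Nat.card X = p →
      X ≠ A ⊓ Subgroup.centralizer (Cfsg.sigmaCore M : Set G) →
        Cfsg.sigmaCore M ⊓ Subgroup.centralizer (X : Set G) = ⊥ ∧
          ¬ Subgroup.centralizer (X : Set G) ≤ M) ∧
    ∀ a ∈ A ⊓ Subgroup.centralizer (Cfsg.sigmaCore M : Set G), t * a = a * t → a = 1 := by
  classical
  have hpp : p.Prime := hp.out
  have hM1 : M ≠ ⊥ := by
    intro h
    apply hMs1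
    rw [eq_bot_iff, ← h]
    exact Cfsg.Agent.Lib.Helper67.BG.sigmaCore_le M
  have hNM : ∀ g : G, M.map (MulAut.conj g).toMonoidHom = M → g ∈ M := by
    intro g hg
    have h1 := Cfsg.Agent.Lib.Helper72.BG8.normalizer_eq_of_coatom_le hG M hM hM1 hM.1
      Subgroup.le_normalizer
    rw [← h1]
    exact mem_normalizer_of_map_conj_eq hg
  have htC : ∃ a ∈ A, t * a ≠ a * t := by
    by_contra hcon
    push Not at hcon
    apply htM
    apply hCA
    rw [Subgroup.mem_centralizer_iff]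
    intro a ha
    exact (hcon a ha).symm
  obtain ⟨Z₀, hZA, hZcard, hZt, hZfix, hZline⟩ := line_action A hAc hAe hAcard t htp htN htC
  have htZ : t ∈ Subgroup.centralizer (Z₀ : Set G) := by
    rw [Subgroup.mem_centralizer_iff]
    intro z hz
    exact (hZt z hz).symm
  -- `Z₀` centralizes no non-identity element of `M_σ`
  have hZna : Cfsg.sigmaCore M ⊓ Subgroup.centralizer (Z₀ : Set G) = ⊥ := by
    by_contra hne
    exact htM ((hact Z₀ hZA hZcard hne).1 htZ)
  -- conjugating an active line by an element of `N(A)` to an active line forces the element into `M`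
  have hkey : ∀ X : Subgroup G, X ≤ A → Nat.card X = p →
      Cfsg.sigmaCore M ⊓ Subgroup.centralizer (X : Set G) ≠ ⊥ →
      ∀ g : G, g ∈ Subgroup.normalizer (A : Set G) →
      Cfsg.sigmaCore M ⊓
        Subgroup.centralizer ((X.map (MulAut.conj g).toMonoidHom : Subgroup G) : Set G) ≠ ⊥ →
      g ∈ M := by
    intro X hXA hXc hXact g hgN hgact
    have hXgA : X.map (MulAut.conj g).toMonoidHom ≤ A := by
      rintro _ ⟨x, hx, rfl⟩
      exact (Subgroup.mem_normalizer_iff.mp hgN x).mp (hXA hx)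
    have hXgc : Nat.card (X.map (MulAut.conj g).toMonoidHom) = p := by
      rw [card_map_conj, hXc]
    obtain ⟨-, h2⟩ := hact X hXA hXc hXact
    obtain ⟨h3, -⟩ := hact _ hXgA hXgc hgact
    have h4 : Subgroup.centralizer (X : Set G) ≤ M.map (MulAut.conj g⁻¹).toMonoidHom := by
      intro c hc
      rw [mem_map_conj_iff, inv_inv]
      apply h3
      exact conj_mem_centralizer_map_conj hc g
    have h5 := h2 _ (isCoatom_map_conj hM g⁻¹) h4
    have h6 := hNM g⁻¹ h5
    simpa using M.inv_mem h6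
  -- at most one active line
  have huniq : ∀ X X' : Subgroup G, X ≤ A → X' ≤ A → Nat.card X = p → Nat.card X' = p →
      Cfsg.sigmaCore M ⊓ Subgroup.centralizer (X : Set G) ≠ ⊥ →
      Cfsg.sigmaCore M ⊓ Subgroup.centralizer (X' : Set G) ≠ ⊥ → X' = X := by
    intro X X' hXA hX'A hXc hX'c hXact hX'act
    by_contra hne
    have hXZ : X ≠ Z₀ := by
      rintro rfl
      exact hXact hZna
    have hX'Z : X' ≠ Z₀ := by
      rintro rfl
      exact hX'act hZna
    obtain ⟨i, hi0, hip, hi⟩ := hZline X X' hXA hX'A hXc hX'c hXZ hX'Z hne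
    rw [hi] at hX'act
    have h1 := hkey X hXA hXc hXact (t ^ i) (Subgroup.pow_mem _ htN i) hX'act
    exact htM (mem_of_pow_mem htp M hi0 hip h1)
  have hnc : ¬ IsCyclic A := by
    intro hcyc
    obtain ⟨g, hg⟩ := hcyc.exists_generator
    have h1 : Nat.card A = orderOf g := by
      rw [← Nat.card_zpowers]
      have h0 : Subgroup.zpowers g = ⊤ := (Subgroup.eq_top_iff' _).mpr hg
      rw [h0, Subgroup.card_top]
    have h2 : g ^ p = 1 := Subtype.ext (hAe g g.2)
    have h3 : orderOf g ∣ p := orderOf_dvd_of_pow_eq_one h2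
    have h4 := Nat.le_of_dvd hpp.pos h3
    rw [← h1, hAcard] at h4
    have h5 := hpp.one_lt
    nlinarith
  have hAN : A ≤ Subgroup.normalizer (Cfsg.sigmaCore M : Set G) :=
    hAM.trans (Cfsg.Agent.Lib.Helper67.BG.sigmaCore_normalizer M)
  have hcent_line : ∀ u : G, Cfsg.sigmaCore M ⊓ Subgroup.centralizer ({u} : Set G) =
      Cfsg.sigmaCore M ⊓ Subgroup.centralizer ((Subgroup.zpowers u : Subgroup G) : Set G) := by
    intro u
    rw [Subgroup.zpowers_eq_closure, Subgroup.centralizer_closure]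
  have hline_of : ∀ u ∈ A, u ≠ 1 →
      Subgroup.zpowers u ≤ A ∧ Nat.card (Subgroup.zpowers u) = p := by
    intro u hu hu1
    refine ⟨Subgroup.zpowers_le.mpr hu, ?_⟩
    rw [Nat.card_zpowers]
    exact orderOf_eq_prime (hAe u hu) hu1
  -- existence of an active line
  obtain ⟨u₁, hu₁A, hu₁1, hu₁act⟩ : ∃ u ∈ A, u ≠ 1 ∧
      Cfsg.sigmaCore M ⊓ Subgroup.centralizer ({u} : Set G) ≠ ⊥ := by
    by_contra hcon
    push Not at hcon
    apply hMs1
    rw [eq_bot_iff]
    apply Cfsg.Agent.Lib.Helper48.coprime_generation_le (Cfsg.sigmaCore M) A hAc hAe hnc hpMs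
      hAN ⊥
    intro u hu hu1
    rw [hcon u hu hu1]
  obtain ⟨hX₁A, hX₁c⟩ := hline_of u₁ hu₁A hu₁1
  rw [hcent_line] at hu₁act
  have hMsC : Cfsg.sigmaCore M ≤
      Subgroup.centralizer ((Subgroup.zpowers u₁ : Subgroup G) : Set G) := by
    apply Cfsg.Agent.Lib.Helper48.coprime_generation_le (Cfsg.sigmaCore M) A hAc hAe hnc hpMs hAN
    intro u hu hu1
    obtain ⟨hXA, hXc⟩ := hline_of u hu hu1
    rw [hcent_line]
    by_cases hact' : Cfsg.sigmaCore M ⊓
        Subgroup.centralizer ((Subgroup.zpowers u : Subgroup G) : Set G) = ⊥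
    · rw [hact']
      exact bot_le
    · have h1 := huniq _ _ hX₁A hXA hX₁c hXc hu₁act hact'
      rw [h1]
      exact inf_le_right
  have hX₁A₀ : Subgroup.zpowers u₁ ≤ A ⊓ Subgroup.centralizer (Cfsg.sigmaCore M : Set G) := by
    refine le_inf hX₁A ?_
    intro x hx
    rw [Subgroup.mem_centralizer_iff]
    intro w hw
    exact (Subgroup.mem_centralizer_iff.mp (hMsC hw) x hx).symm
  have hA₀A : A ⊓ Subgroup.centralizer (Cfsg.sigmaCore M : Set G) ≠ A := by
    intro h
    apply hMs1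
    rw [eq_bot_iff, ← hd]
    refine le_inf le_rfl ?_
    intro w hw
    rw [Subgroup.mem_centralizer_iff]
    intro a ha
    have haA₀ : a ∈ A ⊓ Subgroup.centralizer (Cfsg.sigmaCore M : Set G) := by
      rw [h]
      exact ha
    exact (Subgroup.mem_centralizer_iff.mp haA₀.2 w hw).symm
  have hA₀card : Nat.card ↥(A ⊓ Subgroup.centralizer (Cfsg.sigmaCore M : Set G)) = p := by
    have hdvd : Nat.card ↥(A ⊓ Subgroup.centralizer (Cfsg.sigmaCore M : Set G)) ∣ p ^ 2 :=
      hAcard ▸ Subgroup.card_dvd_of_le inf_le_left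
    obtain ⟨j, hj, hjc⟩ := (Nat.dvd_prime_pow hpp).mp hdvd
    have hge : p ≤ Nat.card ↥(A ⊓ Subgroup.centralizer (Cfsg.sigmaCore M : Set G)) :=
      hX₁c ▸ Subgroup.card_le_of_le hX₁A₀
    have hne : Nat.card ↥(A ⊓ Subgroup.centralizer (Cfsg.sigmaCore M : Set G)) ≠ p ^ 2 := by
      intro h
      exact hA₀A (Subgroup.eq_of_le_of_card_ge inf_le_left (by rw [h, hAcard]))
    interval_cases j
    · rw [pow_zero] at hjc
      have := hpp.one_lt
      omega
    · rw [hjc, pow_one]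
    · exact absurd hjc hne
  have hA₀eq : A ⊓ Subgroup.centralizer (Cfsg.sigmaCore M : Set G) = Subgroup.zpowers u₁ :=
    (Subgroup.eq_of_le_of_card_ge hX₁A₀ (by rw [hA₀card, hX₁c])).symm
  have hA₀act : Cfsg.sigmaCore M ⊓ Subgroup.centralizer
      ((A ⊓ Subgroup.centralizer (Cfsg.sigmaCore M : Set G) : Subgroup G) : Set G) ≠ ⊥ := by
    rw [hA₀eq]
    exact hu₁act
  have hA₀Z : A ⊓ Subgroup.centralizer (Cfsg.sigmaCore M : Set G) ≠ Z₀ := by
    intro h
    rw [h] at hA₀act
    exact hA₀act hZna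
  refine ⟨hA₀card, ?_, ?_⟩
  · intro X hXA hXc hXne
    have hXna : Cfsg.sigmaCore M ⊓ Subgroup.centralizer (X : Set G) = ⊥ := by
      by_contra hact'
      exact hXne (huniq _ X inf_le_left hXA hA₀card hXc hA₀act hact')
    refine ⟨hXna, ?_⟩
    intro hCXM
    by_cases hXZ : X = Z₀
    · rw [hXZ] at hCXM
      exact htM (hCXM htZ)
    · obtain ⟨i, hi0, hip, hi⟩ := hZline _ X inf_le_left hXA hA₀card hXc hA₀Z hXZ hXne
      have hgM : t ^ i ∉ M := fun h => htM (mem_of_pow_mem htp M hi0 hip h)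
      have hgN : t ^ i ∈ Subgroup.normalizer (A : Set G) := Subgroup.pow_mem _ htN i
      have h1 : Cfsg.sigmaCore M ≤ M.map (MulAut.conj (t ^ i)⁻¹).toMonoidHom := by
        intro w hw
        rw [mem_map_conj_iff, inv_inv]
        apply hCXM
        rw [hi]
        apply conj_mem_centralizer_map_conj _ (t ^ i)
        rw [Subgroup.mem_centralizer_iff]
        intro a ha
        exact (Subgroup.mem_centralizer_iff.mp ha.2 w hw).symm
      have h2 : M.map (MulAut.conj (t ^ i)⁻¹).toMonoidHom ≠ M := by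
        intro h
        have h3 := hNM _ h
        exact hgM (by simpa using M.inv_mem h3)
      have h3 : A ≤ M.map (MulAut.conj (t ^ i)⁻¹).toMonoidHom := by
        intro a ha
        rw [mem_map_conj_iff, inv_inv]
        exact hAM ((Subgroup.mem_normalizer_iff.mp hgN a).mp ha)
      have h4 := he _ (isCoatom_map_conj hM _) h2 h3
      apply hMs1
      rw [eq_bot_iff, ← h4]
      exact le_inf le_rfl h1
  · intro a ha hta
    have haZ : a ∈ Z₀ := hZfix a ha.1 hta
    by_contra ha1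
    apply hA₀Z
    have h1 := Cfsg.Agent.Lib.Helper61.eq_zpowers_of_prime_card hpp _ hA₀card ha ha1
    have h2 := Cfsg.Agent.Lib.Helper61.eq_zpowers_of_prime_card hpp Z₀ hZcard haZ ha1
    rw [h1, h2]

end Cfsg.Agent.Lib.Helper79.BG
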