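import Mathlib
import Cfsg.Prelude.Def_OddOrderLocal
import Cfsg.Statements.S1403
import Cfsg.Statements.S1404
import Cfsg.Statements.S1405
import Cfsg.Statements.S1414
import Cfsg.Statements.S1417
import Cfsg.Statements.S1418
import Cfsg.Agent.Lib.Helper79.BG.Util
import Cfsg.Agent.Lib.Helper79.BG.Util2
import Cfsg.Agent.Lib.Helper66.BG.S1350Core
import Cfsg.Agent.Lib.Helper78.BG.S1405Core

/-!
Bender–Glauberman Theorem 12.7(a) (helper79): `τ₂(M) = {p}` when the Sylow `p`-subgroups of `G`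
are not abelian.  Conditional on the statements of rows 1403, 1404, 1405, 1414, 1417, 1418.
-/

set_option autoImplicit false

namespace Cfsg.Agent.Lib.Helper79.BG

open Cfsg.Agent.Lib.Helper46 Cfsg.Agent.Lib.Helper35.BG Cfsg.Agent.Lib.Helper20.BG

theorem tau2_core {G : Type*} [Group G] [Finite G] (hG : Cfsg.IsMinSimpleOddOrder G)
    (h1403 : type_of% (@Cfsg.CfsgFrozen.S1403 G _ _ hG))
    (h1404 : type_of% (@Cfsg.CfsgFrozen.S1404 G _ _ hG))
    (h1405 : type_of% (@Cfsg.CfsgFrozen.S1405 G _ _ hG))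
    (h1414 : type_of% (@Cfsg.CfsgFrozen.S1414 G _ _ hG))
    (h1417 : type_of% (@Cfsg.CfsgFrozen.S1417 G _ _ hG))
    (h1418 : type_of% (@Cfsg.CfsgFrozen.S1418 G _ _ hG))
    (M : Subgroup G) (hM : IsCoatom M) (E : Subgroup G)
    (hE : Cfsg.IsComplIn E (Cfsg.sigmaCore M) M) (p : ℕ) [hp : Fact p.Prime]
    (hpτ : p ∈ Cfsg.tau2 M)
    (A : Subgroup G) (hA : (A ≤ E ∧ Cfsg.IsElementaryAbelian p A ∧ Nat.card A = p ^ 2))
    (T : Subgroup G) (hT : IsPGroup p T) (hAT : A ≤ T)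
    (t : G) (htT : t ∈ T) (htN : t ∈ Subgroup.normalizer (A : Set G)) (htM : t ∉ M) :
    Cfsg.tau2 M = {p} := by
  classical
  have hpp : p.Prime := hp.out
  obtain ⟨hAE, hAea, hAcard⟩ := hA
  have hEM : E ≤ M := hE.1
  have hAM : A ≤ M := hAE.trans hEM
  obtain ⟨⟨hEN, -⟩, ⟨hCA, hNME, hNA⟩, -⟩ := h1418 M hM E hE p hpτ A ⟨hAE, hAea, hAcard⟩
  have hAc := ea_comm hAea
  have hAe := hAea.2
  have hAp : IsPGroup p A := isPGroup_of_ea hAea
  have hA1 : A ≠ ⊥ := by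
    intro h
    rw [h, Subgroup.card_bot] at hAcard
    have h5 := hpp.one_lt
    nlinarith
  ext q
  simp only [Set.mem_singleton_iff]
  constructor
  swap
  · rintro rfl
    exact hpτ
  intro hqτ
  by_contra hqp
  obtain ⟨hqq, hqσ, hqr2, hqr1⟩ := hqτ
  have : Fact q.Prime := ⟨hqq⟩
  obtain ⟨B, hBE, hBea, hBcard⟩ := exists_ea_sq_compl M E hE q hqσ hqr2 hqr1
  have hBM : B ≤ M := hBE.trans hEM
  obtain ⟨⟨hENB, hlinesB⟩, ⟨hCB, -, -⟩, -⟩ :=
    h1418 M hM E hE q ⟨hqq, hqσ, hqr2, hqr1⟩ B ⟨hBE, hBea, hBcard⟩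
  have hBc := ea_comm hBea
  have hBe := hBea.2
  have hBq : IsPGroup q B := isPGroup_of_ea hBea
  have hdisj : A ⊓ B = ⊥ := (IsPGroup.disjoint_of_ne p q (Ne.symm hqp) A B hAp hBq).eq_bot
  -- `[A, B] = 1`
  have hAB : ∀ a ∈ A, ∀ b ∈ B, a * b = b * a := by
    intro a ha b hb
    have h1 : a * b * a⁻¹ * b⁻¹ ∈ A := by
      have h0 : a * b * a⁻¹ * b⁻¹ = a * (b * a⁻¹ * b⁻¹) := by group
      rw [h0]
      exact A.mul_mem ha
        ((Subgroup.mem_normalizer_iff.mp (hEN (hBE hb)) a⁻¹).mp (A.inv_mem ha))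
    have h2 : a * b * a⁻¹ * b⁻¹ ∈ B :=
      B.mul_mem ((Subgroup.mem_normalizer_iff.mp (hENB (hAE ha)) b).mp hb) (B.inv_mem hb)
    have h3 : a * b * a⁻¹ * b⁻¹ ∈ A ⊓ B := ⟨h1, h2⟩
    rw [hdisj, Subgroup.mem_bot] at h3
    calc a * b = (a * b * a⁻¹ * b⁻¹) * (b * a) := by group
      _ = b * a := by rw [h3, one_mul]
  -- `t` normalizes `B`
  have htB : ∀ b ∈ B, t * b * t⁻¹ ∈ B := by
    intro b hb
    have h1 : t * b * t⁻¹ ∈ Subgroup.centralizer (A : Set G) := by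
      rw [Subgroup.mem_centralizer_iff]
      intro a ha
      have ha' : t⁻¹ * a * t ∈ A := (Subgroup.mem_normalizer_iff''.mp htN a).mp ha
      have h2 := hAB _ ha' b hb
      calc a * (t * b * t⁻¹) = t * ((t⁻¹ * a * t) * b) * t⁻¹ := by group
        _ = t * (b * (t⁻¹ * a * t)) * t⁻¹ := by rw [h2]
        _ = t * b * t⁻¹ * a := by group
    have h3 : t * b * t⁻¹ ∈ E := by
      have h0 := hCA h1
      rw [hNME] at h0
      exact h0
    have h4 : (t * b * t⁻¹) ^ q = 1 := by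
      rw [conj_pow, hBe b hb]
      group
    by_cases h5 : t * b * t⁻¹ = 1
    · rw [h5]
      exact B.one_mem
    · have h6 : Nat.card (Subgroup.zpowers (t * b * t⁻¹)) = q := by
        rw [Nat.card_zpowers]
        exact orderOf_eq_prime h4 h5
      exact hlinesB _ (Subgroup.zpowers_le.mpr h3) h6 (Subgroup.mem_zpowers _)
  -- a maximal subgroup `L` containing `N(A)`
  have hAtop : A ≠ ⊤ := by
    intro h
    exact hM.1 (top_le_iff.mp (h ▸ hAM))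
  obtain ⟨L, hL, hNL⟩ := exists_coatom_ge (normalizer_ne_top hG hA1 hAtop)
  have hAL : A ≤ L := Subgroup.le_normalizer.trans hNL
  have htL : t ∈ L := hNL htN
  have hBL : B ≤ L := (hBE.trans hEN).trans hNL
  have htC : ∃ a ∈ A, t * a ≠ a * t := by
    by_contra hcon
    push Not at hcon
    apply htM
    apply (hCA _).1
    rw [Subgroup.mem_centralizer_iff]
    intro a ha
    exact (hcon a ha).symm
  have hα : ∀ r : ℕ, r ∈ Cfsg.alpha L → r ∈ Cfsg.sigma L := fun r hr =>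
    Cfsg.Agent.Lib.Helper78.BG.alpha_subset_sigma hG h1403 L hL hr
  have hτL : ∀ (r : ℕ) [Fact r.Prime] (D : Subgroup G), D ≤ L → Cfsg.IsElementaryAbelian r D →
      Nat.card D = r ^ 2 → r ∉ Cfsg.sigma L → r ∈ Cfsg.tau2 L := by
    intro r hr D hDL hDea hDcard hrσ
    refine ⟨hr.out, hrσ, ?_, ?_⟩
    · by_contra h
      exact hrσ (hα r ⟨hr.out, h⟩)
    · intro hrk
      rw [Cfsg.Agent.Lib.Helper24.pRankLE_subgroup_iff] at hrk
      have h1 := hrk D hDL (ea_comm hDea) hDea.2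
      rw [hDcard, pow_one] at h1
      have h5 := hr.out.one_lt
      nlinarith
  -- a Sylow `p`-subgroup of `L` containing `T ⊓ L`
  obtain ⟨R, hR, hTR⟩ := exists_isSylowIn_ge (hT.to_le inf_le_left) (inf_le_right : T ⊓ L ≤ L)
  obtain ⟨PL, hPL⟩ := hR.exists_sylow
  have htR : t ∈ R := hTR ⟨htT, htL⟩
  have hAR : A ≤ R := fun a ha => hTR ⟨hAT ha, hAL ha⟩
  have hpσL : p ∈ Cfsg.sigma L := by
    by_contra hpσL
    have hpτL := hτL p A hAL hAea hAcard hpσL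
    obtain ⟨-, hb, -⟩ := h1417 L hL p hpτL A ⟨hAL, hAea, hAcard⟩
    have hcomm := (hb PL).1
    obtain ⟨a, ha, hne⟩ := htC
    apply hne
    have haR : a ∈ R := hAR ha
    rw [← hPL] at htR haR
    obtain ⟨t', ht', rfl⟩ := htR
    obtain ⟨a', ha', rfl⟩ := haR
    have h1 := (isMulCommutative_iff.mp hcomm) ⟨t', ht'⟩ ⟨a', ha'⟩
    exact congrArg (fun x : ↥(PL : Subgroup L) => ((x : L) : G)) h1
  have hRσ : R ≤ Cfsg.sigmaCore L := by
    rw [← hPL]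
    exact Subgroup.map_mono
      (Cfsg.Agent.Lib.Helper66.BG.sylow_le_piCore_sigma hG h1404 h1405 L hL p hpσL PL)
  have hAσ : A ≤ Cfsg.sigmaCore L := hAR.trans hRσ
  have htσ : t ∈ Cfsg.sigmaCore L := hRσ htR
  have hqσL : q ∈ Cfsg.sigma L := by
    by_contra hqσL
    have hqτL := hτL q B hBL hBea hBcard hqσL
    obtain ⟨-, -, -, hd, -⟩ := h1417 L hL q hqτL B ⟨hBL, hBea, hBcard⟩
    apply hA1
    rw [eq_bot_iff, ← hd]
    refine le_inf hAσ ?_
    intro a ha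
    rw [Subgroup.mem_centralizer_iff]
    intro b hb
    exact (hAB a ha b hb).symm
  obtain ⟨RB, hRB, hBRB⟩ := exists_isSylowIn_ge hBq hBL
  obtain ⟨QL, hQL⟩ := hRB.exists_sylow
  have hBσ : B ≤ Cfsg.sigmaCore L := by
    refine hBRB.trans ?_
    rw [← hQL]
    exact Subgroup.map_mono
      (Cfsg.Agent.Lib.Helper66.BG.sylow_le_piCore_sigma hG h1404 h1405 L hL q hqσL QL)
  have hqβ : q ∉ Cfsg.beta L := by
    intro h
    exact (s1408_core hG h1403 M hM q hqσ hqr2 hqr1).1 h.2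
  have hqL : q ∣ Nat.card L := by
    have h1 := Subgroup.card_dvd_of_le hBL
    rw [hBcard] at h1
    exact (dvd_pow_self q (by norm_num)).trans h1
  obtain ⟨-, ⟨Q, N, hNn, hNQ⟩, -⟩ := (h1414 L hL).2.2.2.2 q hqq hqL hqβ
  obtain ⟨k, hk⟩ := hT ⟨t, htT⟩
  have htk : t ^ p ^ k = 1 := congrArg Subtype.val hk
  have hidx : N.index = Nat.card (Q : Subgroup ↥(Cfsg.sigmaCore L)) := hNQ.symm.index_eq_card
  obtain ⟨n, hn⟩ := IsPGroup.iff_card.mp Q.isPGroup'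
  have ht'N : (⟨t, htσ⟩ : ↥(Cfsg.sigmaCore L)) ∈ N := by
    have := hNn
    exact mem_of_normal_of_index_pow N (p := p) (q := q)
      ((Nat.coprime_primes hpp hqq).mpr (Ne.symm hqp)) (hidx.trans hn) (k := k)
      (Subtype.ext htk)
  have hqN : ¬ q ∣ Nat.card N := by
    have h1 : (Q : Subgroup ↥(Cfsg.sigmaCore L)).index = Nat.card N := hNQ.index_eq_card
    rw [← h1]
    exact Q.not_dvd_index
  apply htM
  apply (hCB _).1
  rw [Subgroup.mem_centralizer_iff]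
  intro b hb
  have hcB : b * t * b⁻¹ * t⁻¹ ∈ B := by
    have h0 : b * t * b⁻¹ * t⁻¹ = b * (t * b⁻¹ * t⁻¹) := by group
    rw [h0]
    exact B.mul_mem hb (htB _ (B.inv_mem hb))
  have hcN : (⟨b, hBσ hb⟩ : ↥(Cfsg.sigmaCore L)) * ⟨t, htσ⟩ * (⟨b, hBσ hb⟩)⁻¹ *
      (⟨t, htσ⟩)⁻¹ ∈ N :=
    N.mul_mem (hNn.conj_mem _ ht'N _) (N.inv_mem ht'N)
  have hc1 : (⟨b, hBσ hb⟩ : ↥(Cfsg.sigmaCore L)) * ⟨t, htσ⟩ * (⟨b, hBσ hb⟩)⁻¹ *
      (⟨t, htσ⟩)⁻¹ = 1 := by
    apply eq_one_of_pow_of_card N hcN (m := q) ?_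
      ((Nat.Prime.coprime_iff_not_dvd hqq).mpr hqN)
    apply Subtype.ext
    exact hBe _ hcB
  have hc2 : b * t * b⁻¹ * t⁻¹ = 1 := congrArg Subtype.val hc1
  calc b * t = (b * t * b⁻¹ * t⁻¹) * (t * b) := by group
    _ = t * b := by rw [hc2, one_mul]

end Cfsg.Agent.Lib.Helper79.BG
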