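import Mathlib
import Cfsg.Prelude.Def_OddOrderLocal
import Cfsg.Statements.S1403
import Cfsg.Statements.S1404
import Cfsg.Statements.S1405
import Cfsg.Statements.S1412
import Cfsg.Statements.S1414
import Cfsg.Statements.S1417
import Cfsg.Statements.S1418
import Cfsg.Agent.Lib.Helper79.BG.Util
import Cfsg.Agent.Lib.Helper79.BG.Util2
import Cfsg.Agent.Lib.Helper79.BG.S1419Lines
import Cfsg.Agent.Lib.Helper79.BG.S1419Tau
import Cfsg.Agent.Lib.Helper79.BG.S1419Fit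

/-!
Bender–Glauberman Theorem 12.7 (row 1419), helper79: conditional on the statements of rows 1403
(uniqueness theorem), 1404 (10.1), 1405 (10.2), 1412 (10.7(b)), 1414 (10.8), 1417 (12.5) and
1418 (12.6), all taken as hypotheses for the same group.  Row 1453 is used as proved.
-/

set_option autoImplicit false

namespace Cfsg.Agent.Lib.Helper79.BG

open Cfsg.Agent.Lib.Helper46 Cfsg.Agent.Lib.Helper35.BG Cfsg.Agent.Lib.Helper20.BG

theorem s1419_core {G : Type*} [Group G] [Finite G] (hG : Cfsg.IsMinSimpleOddOrder G)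
    (h1403 : type_of% (@Cfsg.CfsgFrozen.S1403 G _ _ hG))
    (h1404 : type_of% (@Cfsg.CfsgFrozen.S1404 G _ _ hG))
    (h1405 : type_of% (@Cfsg.CfsgFrozen.S1405 G _ _ hG))
    (h1412 : type_of% (@Cfsg.CfsgFrozen.S1412 G _ _ hG))
    (h1414 : type_of% (@Cfsg.CfsgFrozen.S1414 G _ _ hG))
    (h1417 : type_of% (@Cfsg.CfsgFrozen.S1417 G _ _ hG))
    (h1418 : type_of% (@Cfsg.CfsgFrozen.S1418 G _ _ hG))
    (M : Subgroup G) (hM : IsCoatom M) (E : Subgroup G)
    (hE : Cfsg.IsComplIn E (Cfsg.sigmaCore M) M) (p : ℕ) [Fact p.Prime] (hp : p ∈ Cfsg.tau2 M)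
    (hS : ∀ S : Sylow p G, ¬ IsMulCommutative (S : Subgroup G))
    (A : Subgroup G) (hA : (A ≤ E ∧ Cfsg.IsElementaryAbelian p A ∧ Nat.card A = p ^ 2)) :
    Cfsg.tau2 M = {p} ∧
      (Nat.card ↥(A ⊓ Subgroup.centralizer (Cfsg.sigmaCore M : Set G)) = p ∧
        Cfsg.fittingOf M =
          Cfsg.sigmaCore M ⊔ (A ⊓ Subgroup.centralizer (Cfsg.sigmaCore M : Set G))) ∧
      ∀ X : Subgroup G, X ≤ E → Nat.card X = p →
        X ≠ A ⊓ Subgroup.centralizer (Cfsg.sigmaCore M : Set G) →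
        Cfsg.sigmaCore M ⊓ Subgroup.centralizer (X : Set G) = ⊥ ∧
          ¬ Subgroup.centralizer (X : Set G) ≤ M := by
  classical
  have hpp : p.Prime := Fact.out
  obtain ⟨hAE, hAea, hAcard⟩ := hA
  have hEM : E ≤ M := hE.1
  have hAM : A ≤ M := hAE.trans hEM
  obtain ⟨hnil, hb, -, hd, he, -⟩ := h1417 M hM p hp A ⟨hAM, hAea, hAcard⟩
  obtain ⟨⟨hEN, hlines⟩, ⟨hCA', hNME, hNA⟩, hact⟩ :=
    h1418 M hM E hE p hp A ⟨hAE, hAea, hAcard⟩
  have hCA : Subgroup.centralizer (A : Set G) ≤ M := hCA'.trans inf_le_left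
  have hAp : IsPGroup p A := isPGroup_of_ea hAea
  -- a Sylow `p`-subgroup of `M` containing `A`
  obtain ⟨P, hP⟩ := (hAp.comap_subtype (K := M)).exists_le_sylow
  have hAP : A ≤ (P : Subgroup M).map M.subtype := by
    intro y hy
    exact ⟨⟨y, hAM hy⟩, hP (show ((⟨y, hAM hy⟩ : M) : G) ∈ A from hy), rfl⟩
  obtain ⟨hPc, hP2⟩ := hb P
  obtain ⟨hΩ, -⟩ := hP2 hAP
  have hP'p : IsPGroup p ((P : Subgroup M).map M.subtype) := P.isPGroup'.map _
  have hP'c : ∀ x ∈ (P : Subgroup M).map M.subtype, ∀ y ∈ (P : Subgroup M).map M.subtype,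
      x * y = y * x := by
    rintro _ ⟨x, hx, rfl⟩ _ ⟨y, hy, rfl⟩
    have h1 := (isMulCommutative_iff.mp hPc) ⟨x, hx⟩ ⟨y, hy⟩
    exact congrArg (fun z : ↥(P : Subgroup M) => ((z : M) : G)) h1
  -- a Sylow `p`-subgroup of `G` containing it
  obtain ⟨S, hPS⟩ := hP'p.exists_le_sylow
  have hne : (P : Subgroup M).map M.subtype ≠ (S : Subgroup G) := by
    intro h
    apply hS S
    rw [← h]
    exact isMulCommutative_subgroup_iff.mpr hP'c
  obtain ⟨t, htS, htNP, htP⟩ := exists_mem_normalizer_not_mem S.isPGroup' hPS hne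
  have hP'syl : IsSylowIn p ((P : Subgroup M).map M.subtype) M := isSylowIn_of_sylow P
  have htM : t ∉ M := by
    intro htM
    have h1 : (S : Subgroup G) ⊓ M = (P : Subgroup M).map M.subtype :=
      sylIn_eq_of_le hP'syl (S.isPGroup'.to_le inf_le_left) inf_le_right (le_inf hPS hP'syl.1)
    exact htP (h1 ▸ Subgroup.mem_inf.mpr ⟨htS, htM⟩)
  have htN : t ∈ Subgroup.normalizer (A : Set G) := by
    rw [Subgroup.mem_normalizer_iff] at htNP ⊢
    intro a
    constructor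
    · intro ha
      have h1 := (htNP a).mp (hAP ha)
      refine (hΩ _ h1).mp ?_
      rw [conj_pow, hAea.2 a ha]
      group
    · intro h
      have h1 := (htNP a).mpr (hAP h)
      refine (hΩ a h1).mp ?_
      have h2 := hAea.2 _ h
      rw [conj_pow] at h2
      exact conj_eq_one_iff.mp h2
  obtain ⟨k, hk⟩ := S.isPGroup' ⟨t, htS⟩
  have htp : ∃ k : ℕ, t ^ p ^ k = 1 := ⟨k, congrArg Subtype.val hk⟩
  have hpσ : p ∉ Cfsg.sigma M := hp.2.1
  have hpMs : ¬ p ∣ Nat.card (Cfsg.sigmaCore M) := fun h =>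
    hpσ (Cfsg.Agent.Lib.Helper67.BG.sigmaCore_isPi M p hpp h)
  have hA1 : A ≠ ⊥ := by
    intro h
    rw [h, Subgroup.card_bot] at hAcard
    have h5 := hpp.one_lt
    nlinarith
  have hAtop : A ≠ ⊤ := by
    intro h
    exact hM.1 (top_le_iff.mp (h ▸ hAM))
  have hMs1 : Cfsg.sigmaCore M ≠ ⊥ := by
    intro h
    apply hNA
    have hME : M ≤ E := by
      intro m hm
      obtain ⟨e, he', s, hs, rfl⟩ := hE.2.2.2 m hm
      rw [h, Subgroup.mem_bot] at hs
      rw [hs, mul_one]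
      exact he'
    have h1 := Cfsg.Agent.Lib.Helper72.BG8.normalizer_eq_of_coatom_le hG M hM hA1 hAtop
      (hME.trans hEN)
    rw [h1]
  obtain ⟨hA₀card, hc3, hA₀t⟩ := lines_core hG M hM p A hAM (ea_comm hAea) hAea.2 hAcard hpMs
    hMs1 hd he hact t htp htN htM hCA
  have hτ := tau2_core hG h1403 h1404 h1405 h1414 h1417 h1418 M hM E hE p hp A
    ⟨hAE, hAea, hAcard⟩ S S.isPGroup' (hAP.trans hPS) t htS htN htM
  refine ⟨hτ, ⟨hA₀card, ?_⟩, ?_⟩
  · exact fitting_core hG h1403 h1412 M hM E hE p hp hτ A hAE hAea hAcard hnil hEN hCA P hAP hP'c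
      hΩ S (hS S) hPS t htS htN htM hA₀t
  · intro X hXE hXc hXne
    exact hc3 X (hlines X hXE hXc) hXc hXne

end Cfsg.Agent.Lib.Helper79.BG
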