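import Mathlib
import Cfsg.Prelude.Def_OddOrderLocal
import Cfsg.Statements.S1403
import Cfsg.Statements.S1412
import Cfsg.Agent.Lib.Helper79.BG.Util
import Cfsg.Agent.Lib.Helper79.BG.Util2
import Cfsg.Agent.Lib.Helper79.BG.S1419Pow
import Cfsg.Agent.Lib.Helper48.Generation
import Cfsg.Agent.Lib.Helper69.PCount
import Cfsg.Agent.Lib.Helper72.BG8
import Cfsg.Agent.Lib.Helper75.BGUtil
import Cfsg.Agent.Lib.Helper78.BG.S1405Core

/-!
Bender–Glauberman Theorem 12.7(b) (helper79): `F(M) = M_σ × A₀`.  Conditional on the statements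
of rows 1403 and 1412.
-/

set_option autoImplicit false

namespace Cfsg.Agent.Lib.Helper79.BG

open Cfsg.Agent.Lib.Helper46 Cfsg.Agent.Lib.Helper35.BG Cfsg.Agent.Lib.Helper20.BG

theorem fitting_core {G : Type*} [Group G] [Finite G] (hG : Cfsg.IsMinSimpleOddOrder G)
    (h1403 : type_of% (@Cfsg.CfsgFrozen.S1403 G _ _ hG))
    (h1412 : type_of% (@Cfsg.CfsgFrozen.S1412 G _ _ hG))
    (M : Subgroup G) (hM : IsCoatom M) (E : Subgroup G)
    (hE : Cfsg.IsComplIn E (Cfsg.sigmaCore M) M) (p : ℕ) [hp : Fact p.Prime]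
    (hpτ : p ∈ Cfsg.tau2 M) (hτ : Cfsg.tau2 M = {p})
    (A : Subgroup G) (hAE : A ≤ E) (hAea : Cfsg.IsElementaryAbelian p A)
    (hAcard : Nat.card A = p ^ 2)
    (hnil : Group.IsNilpotent (Cfsg.sigmaCore M))
    (hEN : E ≤ Subgroup.normalizer (A : Set G))
    (hCA : Subgroup.centralizer (A : Set G) ≤ M)
    (P : Sylow p M) (hAP : A ≤ (P : Subgroup M).map M.subtype)
    (hP'c : ∀ x ∈ (P : Subgroup M).map M.subtype, ∀ y ∈ (P : Subgroup M).map M.subtype,
      x * y = y * x)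
    (hΩ : ∀ x ∈ (P : Subgroup M).map M.subtype, x ^ p = 1 ↔ x ∈ A)
    (S : Sylow p G) (hS : ¬ IsMulCommutative (S : Subgroup G))
    (hPS : (P : Subgroup M).map M.subtype ≤ S)
    (t : G) (htS : t ∈ (S : Subgroup G)) (htN : t ∈ Subgroup.normalizer (A : Set G))
    (htM : t ∉ M)
    (hA₀t : ∀ a ∈ A ⊓ Subgroup.centralizer (Cfsg.sigmaCore M : Set G), t * a = a * t → a = 1) :
    Cfsg.fittingOf M =
      Cfsg.sigmaCore M ⊔ (A ⊓ Subgroup.centralizer (Cfsg.sigmaCore M : Set G)) := by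
  classical
  have hpp : p.Prime := hp.out
  obtain ⟨hEM, hMsM, hdisj, hprod⟩ := hE
  have hAM : A ≤ M := hAE.trans hEM
  obtain ⟨-, hpσ, hpr2, hpr1⟩ := hpτ
  have hAc := ea_comm hAea
  have hAe := hAea.2
  have hAp : IsPGroup p A := isPGroup_of_ea hAea
  have hMsN : M ≤ Subgroup.normalizer (Cfsg.sigmaCore M : Set G) :=
    Cfsg.Agent.Lib.Helper67.BG.sigmaCore_normalizer M
  have hpMs : ¬ p ∣ Nat.card (Cfsg.sigmaCore M) := fun h =>
    hpσ (Cfsg.Agent.Lib.Helper67.BG.sigmaCore_isPi M p hpp h)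
  -- `M` normalizes `A₀`
  have hA₀conj : ∀ m ∈ M, ∀ x ∈ A ⊓ Subgroup.centralizer (Cfsg.sigmaCore M : Set G),
      m * x * m⁻¹ ∈ A ⊓ Subgroup.centralizer (Cfsg.sigmaCore M : Set G) := by
    intro m hm x hx
    obtain ⟨e, he, s, hs, rfl⟩ := hprod m hm
    have hsx : s * x * s⁻¹ = x := by
      have h0 := Subgroup.mem_centralizer_iff.mp hx.2 s hs
      rw [h0]
      group
    have h1 : e * s * x * (e * s)⁻¹ = e * x * e⁻¹ := by
      calc e * s * x * (e * s)⁻¹ = e * (s * x * s⁻¹) * e⁻¹ := by group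
        _ = e * x * e⁻¹ := by rw [hsx]
    rw [h1]
    refine Subgroup.mem_inf.mpr ⟨(Subgroup.mem_normalizer_iff.mp (hEN he) x).mp hx.1, ?_⟩
    rw [Subgroup.mem_centralizer_iff]
    intro w hw
    have hw' : e⁻¹ * w * e ∈ Cfsg.sigmaCore M :=
      (Subgroup.mem_normalizer_iff''.mp (hMsN (hEM he)) w).mp hw
    have h2 := Subgroup.mem_centralizer_iff.mp hx.2 _ hw'
    calc w * (e * x * e⁻¹) = e * ((e⁻¹ * w * e) * x) * e⁻¹ := by group
      _ = e * (x * (e⁻¹ * w * e)) * e⁻¹ := by rw [h2]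
      _ = e * x * e⁻¹ * w := by group
  have hA₀N : M ≤ Subgroup.normalizer
      ((A ⊓ Subgroup.centralizer (Cfsg.sigmaCore M : Set G) : Subgroup G) : Set G) :=
    Subgroup.le_normalizer_iff.mpr hA₀conj
  have hA₀M : A ⊓ Subgroup.centralizer (Cfsg.sigmaCore M : Set G) ≤ M := inf_le_left.trans hAM
  have hA₀p : IsPGroup p ↥(A ⊓ Subgroup.centralizer (Cfsg.sigmaCore M : Set G)) :=
    hAp.to_le inf_le_left
  apply le_antisymm
  swap
  · refine sup_le ?_ ?_
    · exact Cfsg.Agent.Lib.Helper72.BG8.le_fittingOf_of_normal_nilpotent M _ hMsM hMsN hnil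
    · exact Cfsg.Agent.Lib.Helper72.BG8.le_fittingOf_of_normal_nilpotent M _ hA₀M hA₀N
        hA₀p.isNilpotent
  -- the inclusion `F(M) ≤ M_σ A₀`
  have hFM : Cfsg.fittingOf M ≤ M := Subgroup.map_subtype_le _
  have hFnil : Group.IsNilpotent (Cfsg.fittingOf M) := fittingOf_nilpotent M
  have hFN : M ≤ Subgroup.normalizer (Cfsg.fittingOf M : Set G) := fittingOf_normalizer M
  apply Cfsg.Agent.Lib.Helper48.le_of_forall_sylow_le
  intro q hq
  have hqF : Fact q.Prime := ⟨hq⟩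
  obtain ⟨Q'⟩ : Nonempty (Sylow q (Cfsg.fittingOf M)) := inferInstance
  refine ⟨Q', ?_⟩
  obtain ⟨Y, hY⟩ : ∃ Y : Subgroup G,
      Y = (Q' : Subgroup (Cfsg.fittingOf M)).map (Cfsg.fittingOf M).subtype := ⟨_, rfl⟩
  rw [← hY]
  have hYF : Y ≤ Cfsg.fittingOf M := by
    rw [hY]
    exact Subgroup.map_subtype_le _
  have hYM : Y ≤ M := hYF.trans hFM
  have hYq : IsPGroup q Y := by
    rw [hY]
    exact Q'.isPGroup'.map _
  have hYN : M ≤ Subgroup.normalizer (Y : Set G) := by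
    rw [hY]
    exact le_normalizer_sylow_of_nilpotent hFnil hFN Q'
  by_cases hqσ : q ∈ Cfsg.sigma M
  · -- `Y ≤ M_σ`
    refine le_trans ?_ le_sup_left
    have hn : (Y.subgroupOf M).Normal :=
      (Subgroup.normal_subgroupOf_iff_le_normalizer hYM).mpr hYN
    have hpi : ∀ r : ℕ, r.Prime → r ∣ Nat.card (Y.subgroupOf M) → r ∈ Cfsg.sigma M := by
      intro r hr hdvd
      rw [Nat.card_congr (Subgroup.subgroupOfEquivOfLe hYM).toEquiv] at hdvd
      rw [Cfsg.Agent.Lib.Helper67.BG.prime_eq_of_dvd_card_isPGroup hYq hr hdvd]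
      exact hqσ
    have hle : Y.subgroupOf M ≤ Cfsg.piCore (Cfsg.sigma M) M := le_sSup ⟨hn, hpi⟩
    intro y hy
    exact ⟨⟨y, hYM hy⟩, hle (Subgroup.mem_subgroupOf.mpr hy), rfl⟩
  by_cases hqp : q = p
  · -- `Y ≤ A₀`
    refine le_trans ?_ le_sup_right
    have hYp : IsPGroup p Y := hqp ▸ hYq
    have hYP : Y ≤ (P : Subgroup M).map M.subtype :=
      sylIn_normal_le (isSylowIn_of_sylow P) hYp hYM hYN
    have hYC : Y ≤ Subgroup.centralizer (Cfsg.sigmaCore M : Set G) := by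
      intro y hy
      rw [Subgroup.mem_centralizer_iff]
      intro w hw
      have h1 : w * y * w⁻¹ * y⁻¹ ∈ Y :=
        Y.mul_mem ((Subgroup.mem_normalizer_iff.mp (hYN (hMsM hw)) y).mp hy) (Y.inv_mem hy)
      have h2 : w * y * w⁻¹ * y⁻¹ ∈ Cfsg.sigmaCore M := by
        have h0 : w * y * w⁻¹ * y⁻¹ = w * (y * w⁻¹ * y⁻¹) := by group
        rw [h0]
        exact (Cfsg.sigmaCore M).mul_mem hw
          ((Subgroup.mem_normalizer_iff.mp (hMsN (hYM hy)) w⁻¹).mp ((Cfsg.sigmaCore M).inv_mem hw))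
      have h3 : w * y * w⁻¹ * y⁻¹ = 1 := by
        obtain ⟨k, hk⟩ := hYp ⟨_, h1⟩
        have hk' : (w * y * w⁻¹ * y⁻¹) ^ p ^ k = 1 := congrArg Subtype.val hk
        exact eq_one_of_pow_of_card (Cfsg.sigmaCore M) h2 hk'
          (Nat.Coprime.pow_left k ((Nat.Prime.coprime_iff_not_dvd hpp).mpr hpMs))
      calc w * y = (w * y * w⁻¹ * y⁻¹) * (y * w) := by group
        _ = y * w := by rw [h3, one_mul]
    have hYe : ∀ y ∈ Y, y ^ p = 1 := by
      intro y hy
      by_contra hne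
      obtain ⟨k, hk⟩ := hYp ⟨y, hy⟩
      have hk' : y ^ p ^ k = 1 := congrArg Subtype.val hk
      have hex : ∃ k, y ^ p ^ k = 1 := ⟨k, hk'⟩
      obtain ⟨k₀, hk₀s, hk₀min⟩ : ∃ k₀, y ^ p ^ k₀ = 1 ∧ ∀ m < k₀, y ^ p ^ m ≠ 1 :=
        ⟨Nat.find hex, Nat.find_spec hex, fun m hm => Nat.find_min hex hm⟩
      have hk₀2 : 2 ≤ k₀ := by
        by_contra hlt
        have h01 : k₀ = 0 ∨ k₀ = 1 := by omega
        rcases h01 with h0 | h1
        · rw [h0, pow_zero, pow_one] at hk₀s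
          exact hne (by rw [hk₀s, one_pow])
        · rw [h1, pow_one] at hk₀s
          exact hne hk₀s
      have hxY : y ^ p ^ (k₀ - 2) ∈ Y := Y.pow_mem hy _
      have hzY : (y ^ p ^ (k₀ - 2)) ^ p ∈ Y := Y.pow_mem hxY p
      have hzp : ((y ^ p ^ (k₀ - 2)) ^ p) ^ p = 1 := by
        have h0 : p ^ (k₀ - 2) * p * p = p ^ k₀ := by
          rw [← pow_succ, ← pow_succ]
          congr 1
          omega
        rw [← pow_mul, ← pow_mul, ← mul_assoc, h0]
        exact hk₀s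
      have hz1 : (y ^ p ^ (k₀ - 2)) ^ p ≠ 1 := by
        intro h
        rw [← pow_mul, ← pow_succ] at h
        exact hk₀min (k₀ - 2 + 1) (by omega) h
      have hzA : (y ^ p ^ (k₀ - 2)) ^ p ∈ A := (hΩ _ (hYP hzY)).mp hzp
      have hzA₀ : (y ^ p ^ (k₀ - 2)) ^ p ∈
          A ⊓ Subgroup.centralizer (Cfsg.sigmaCore M : Set G) := ⟨hzA, hYC hzY⟩
      apply hz1
      apply hA₀t _ hzA₀
      exact (pow_central hG h1403 h1412 M hM p hpσ A hAM hAea hAcard S hS _ hPS hP'c hAP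
        (y ^ p ^ (k₀ - 2)) (hYP hxY) hzA t htS).symm
    intro y hy
    exact ⟨(hΩ y (hYP hy)).mp (hYe y hy), hYC hy⟩
  · -- `Y = 1`
    have hY1 : Y = ⊥ := by
      by_contra hY1
      obtain ⟨R, hRE, hRM⟩ := sylow_compl M E ⟨hEM, hMsM, hdisj, hprod⟩ q hqσ
      have hYE : Y ≤ E := (sylIn_normal_le hRM hYq hYM hYN).trans hRE.1
      have hYA : Y ⊓ A = ⊥ := (IsPGroup.disjoint_of_ne q p hqp Y A hYq hAp).eq_bot
      have hYCA : ∀ y ∈ Y, ∀ a ∈ A, y * a = a * y := by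
        intro y hy a ha
        have h1 : y * a * y⁻¹ * a⁻¹ ∈ A :=
          A.mul_mem ((Subgroup.mem_normalizer_iff.mp (hEN (hYE hy)) a).mp ha) (A.inv_mem ha)
        have h2 : y * a * y⁻¹ * a⁻¹ ∈ Y := by
          have h0 : y * a * y⁻¹ * a⁻¹ = y * (a * y⁻¹ * a⁻¹) := by group
          rw [h0]
          exact Y.mul_mem hy
            ((Subgroup.mem_normalizer_iff.mp (hYN (hAM ha)) y⁻¹).mp (Y.inv_mem hy))
        have h3 : y * a * y⁻¹ * a⁻¹ ∈ Y ⊓ A := ⟨h2, h1⟩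
        rw [hYA, Subgroup.mem_bot] at h3
        calc y * a = (y * a * y⁻¹ * a⁻¹) * (a * y) := by group
          _ = a * y := by rw [h3, one_mul]
      have hYtM : Y.map (MulAut.conj t).toMonoidHom ≤ M := by
        rintro _ ⟨y, hy, rfl⟩
        apply hCA
        rw [Subgroup.mem_centralizer_iff]
        intro a ha
        have ha' : t⁻¹ * a * t ∈ A := (Subgroup.mem_normalizer_iff''.mp htN a).mp ha
        have h2 := hYCA y hy _ ha'
        show a * (t * y * t⁻¹) = t * y * t⁻¹ * a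
        calc a * (t * y * t⁻¹) = t * ((t⁻¹ * a * t) * y) * t⁻¹ := by group
          _ = t * (y * (t⁻¹ * a * t)) * t⁻¹ := by rw [h2]
          _ = t * y * t⁻¹ * a := by group
      have hYtop : Y ≠ ⊤ := fun h => hM.1 (top_le_iff.mp (h ▸ hYM))
      have hNY := Cfsg.Agent.Lib.Helper72.BG8.normalizer_eq_of_coatom_le hG M hM hY1 hYtop hYN
      have hYt : Y.map (MulAut.conj t).toMonoidHom ≠ Y := by
        intro h
        exact htM (hNY ▸ mem_normalizer_of_map_conj_eq h)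
      have hq2 : q ≠ 2 := by
        rintro rfl
        have h1 : Odd (Nat.card Y) := odd_card_subgroup hG Y
        have h2 := Cfsg.Agent.Lib.Helper67.BG.dvd_card_of_isPGroup_ne_bot hYq hY1
        exact (Nat.not_even_iff_odd.mpr h1) (even_iff_two_dvd.mpr h2)
      have hr1 : ¬ Cfsg.PRankLE q 1 M := by
        intro hr1
        have hKq : IsPGroup q ↥(Y ⊔ Y.map (MulAut.conj t).toMonoidHom) :=
          IsPGroup.to_sup_of_normal_left' hYq (hYq.map _) (hYtM.trans hYN)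
        have hKM : Y ⊔ Y.map (MulAut.conj t).toMonoidHom ≤ M := sup_le hYM hYtM
        have hKr : Cfsg.PRankLE q 1 ↥(Y ⊔ Y.map (MulAut.conj t).toMonoidHom) := by
          rw [Cfsg.Agent.Lib.Helper24.pRankLE_subgroup_iff] at hr1 ⊢
          intro D hDK hc he
          exact hr1 D (hDK.trans hKM) hc he
        have hKc : IsCyclic ↥(Y ⊔ Y.map (MulAut.conj t).toMonoidHom) :=
          Cfsg.Agent.Lib.Helper75.BG.isCyclic_of_pRankLE_one q hq2 hKq hKr
        apply hYt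
        have h1 : (Y.map (MulAut.conj t).toMonoidHom).subgroupOf
            (Y ⊔ Y.map (MulAut.conj t).toMonoidHom) =
            Y.subgroupOf (Y ⊔ Y.map (MulAut.conj t).toMonoidHom) := by
          apply Cfsg.Agent.Lib.Helper69.eq_of_card_eq_of_isCyclic
          rw [Nat.card_congr (Subgroup.subgroupOfEquivOfLe le_sup_right).toEquiv,
            Nat.card_congr (Subgroup.subgroupOfEquivOfLe le_sup_left).toEquiv, card_map_conj]
        have h2 := congrArg (Subgroup.map (Y ⊔ Y.map (MulAut.conj t).toMonoidHom).subtype) h1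
        rwa [Subgroup.map_subgroupOf_eq_of_le le_sup_right,
          Subgroup.map_subgroupOf_eq_of_le le_sup_left] at h2
      have hr2 : Cfsg.PRankLE q 2 M := by
        by_contra h
        exact hqσ (Cfsg.Agent.Lib.Helper78.BG.alpha_subset_sigma hG h1403 M hM ⟨hq, h⟩)
      have hqτ : q ∈ Cfsg.tau2 M := ⟨hq, hqσ, hr2, hr1⟩
      rw [hτ] at hqτ
      exact hqp hqτ
    rw [hY1]
    exact bot_le

end Cfsg.Agent.Lib.Helper79.BG
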